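import Cfsg.Agent.H577.GLB.Fam
import Cfsg.Agent.H666.Clif.Lin

/-!
# S4536, LIN: linear characters (helper583), from H666/Clif/Lin
-/

set_option autoImplicit false
set_option linter.unusedSectionVars false
open Polynomial Cfsg
open scoped ComplexConjugate TensorProduct MatrixGroups

namespace Cfsg.Agent.H583.GLn

open Cfsg.Agent.H614.GLn Cfsg.Agent.H577.GLB.Std Cfsg.Agent.H577.GLB.Real Cfsg.Agent.H657 Cfsg.Agent.H624.Sl

universe u v w

variable {F : Type u} [Field F] [Finite F] {K : Type u} [Field K] [Algebra F K] {θ : K →*₀ ℂ} {N M : ℕ} [NeZero M]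
  {p : ℕ}

/-- L1 -/
theorem exists_label_of_lin (hctx : Ctx F θ N M) (hN : 1 ≤ N) {n : ℕ} (hn : 0 < n) (l : GL (Fin n) F →* ℂˣ)
    (hl : ∀ x ∈ slS F n, l x = 1) : ∃! a : ZMod M, TorZ (Nat.card F) M 1 a ∧ l = dch n (linH F θ M a) := by
  obtain ⟨α, hα⟩ := Cfsg.Agent.H666.Clif.exists_dch hn l hl
  obtain ⟨a, ha, ha'⟩ := Cfsg.Agent.H666.Clif.exists_linH hctx hN α
  refine ⟨a, ⟨ha, by rw [ha', hα]⟩, ?_⟩
  rintro b ⟨hb, hb'⟩
  apply Cfsg.Agent.H666.Clif.linH_injOn hctx hN hb ha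
  apply Cfsg.Agent.H666.Clif.dch_injective hn
  show dch n (linH F θ M b) = dch n (linH F θ M a)
  rw [← hb', ha', hα]

/-- L2 -/
theorem orderOf_dch (hctx : Ctx F θ N M) (hN : 1 ≤ N) {n : ℕ} (hn : 0 < n) (a : ZMod M)
    (ha : TorZ (Nat.card F) M 1 a) : orderOf (dch n (linH F θ M a)) = addOrderOf a := by
  rw [Cfsg.Agent.H666.Clif.orderOf_dch hn, Cfsg.Agent.H666.Clif.orderOf_linH hctx hN ha]

end Cfsg.Agent.H583.GLn
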