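import Cfsg.Agent.H577.GLB.Real
import Cfsg.Agent.H577.GLB.StdCount
import Cfsg.Agent.H623.GLn.Cop
import Cfsg.Agent.H623.GLn.Real
import Cfsg.Agent.H624.Sl.Defs

/-!
# S4536, D4-E: the cuspidal irreducible characters (helper583, task 5825)
-/

set_option autoImplicit false
set_option linter.unusedSectionVars false

open Polynomial Cfsg
open scoped ComplexConjugate TensorProduct MatrixGroups

namespace Cfsg.Agent.H583.GLn

open Cfsg.Agent.H614.GLn Cfsg.Agent.H577.GLB.Std Cfsg.Agent.H624.Sl Cfsg.Agent.H623.GLn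
open Cfsg.Agent.H577.GLB.Real (Om coP PhiF evA)
open Cfsg.Agent.H139.Cusp (kap kap_one isIrr_sign degP degP_pos)

universe u v

attribute [local instance] Cfsg.Agent.H139.Cusp.fintypeHom Cfsg.Agent.H139.Cusp.fintypeSub
  Cfsg.Agent.H139.Cusp.finite_quot

section

variable {F : Type u} [Field F] {K : Type u} [Field K] [Algebra F K] {θ : K →*₀ ℂ} {N M : ℕ} [NeZero M]

theorem iterate_mul {R : Type*} [CommRing R] (q c : R) (n : ℕ) : (fun x : R => q * x)^[n] c = q ^ n * c := by
  induction n with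
  | zero => rw [Function.iterate_zero_apply, pow_zero, one_mul]
  | succ n ih => rw [Function.iterate_succ_apply', ih, pow_succ', mul_assoc]

theorem torZ_of_per {Q : ℤ} {k : ℕ} {c : ZMod M} (hc : perZ Q M c = k) : TorZ Q M k c := by
  have h1 : (fun x : ZMod M => (Q : ZMod M) * x)^[k] c = c := by
    rw [← hc]
    exact Function.iterate_minimalPeriod
  rw [iterate_mul] at h1
  rw [TorZ, sub_mul, h1, one_mul, sub_self]

theorem lba_X_sub_one (a : ℕ) : lba (F := F) θ a (X - 1 : F[X]) = 1 := by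
  rw [lba, Polynomial.map_sub, Polynomial.map_X, Polynomial.map_one, ← C_1, roots_X_sub_C,
    Multiset.map_singleton, Multiset.sum_singleton, if_neg one_ne_zero, map_one, one_pow]

/-- D4-E: the cuspidal irreducible characters -/
theorem exists_cusp [Finite F] (hctx : Ctx F θ N M) {k : ℕ} (hk : 0 < k) (hkN : k ≤ N) (c : ZMod M)
    (hc : perZ (Nat.card F) M c = k) :
    ∃ χ : IrrCharacter (GL (Fin k) F), IsCusp (χ : GL (Fin k) F → ℂ) ∧
      ∀ g, (χ : GL (Fin k) F → ℂ) g = (-1) ^ (k - 1) * Om (F := F) θ M k (rv (Nat.card F) M k c) g := by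
  classical
  have := hctx.finK
  have := Fintype.ofFinite (GL (Fin k) F)
  have hTor : TorZ (Nat.card F : ℤ) M k c := torZ_of_per hc
  obtain ⟨a, ha⟩ : ∃ a, a = expo (Nat.card F) M k c := ⟨_, rfl⟩
  have hfn : ∀ g : GL (Fin k) F, Om (F := F) θ M k (rv (Nat.card F) M k c) g =
      (Rf (F := F) θ k a).fn (Fin k → F) (Matrix.toLin' (g : Matrix (Fin k) (Fin k) F)) := by
    intro g
    have h1 := piA_rv hctx hk hkN hTor
    rw [Om, piA_eq, h1, Rc, ha]
  have hval : ∀ g : GL (Fin k) F, Om (F := F) θ M k (rv (Nat.card F) M k c) g =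
      kap (lba (F := F) θ a) (Matrix.toLin' g.1) ⊤ := by
    intro g
    rw [hfn, Rf, comp_fn, if_pos (Module.finrank_fin_fun F), kapF_fn]
  -- a generalized character
  have hgen : IsGeneralizedCharacter (GL (Fin k) F) (Om (F := F) θ M k (rv (Nat.card F) M k c)) := by
    have h1 := Cfsg.Agent.H941.GLn.isVC_Rf (F := F) (θ := θ) hctx.inj (k := k)
      (fun h hh hd => hctx.spl h hh (hd.trans hkN)) a (Fin k → F)
    have h2 := Cfsg.Agent.H139.Cusp.isGeneralizedCharacter_comp
      (Matrix.GeneralLinearGroup.toLin : GL (Fin k) F ≃* _).toMonoidHom h1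
    have h3 : (Om (F := F) θ M k (rv (Nat.card F) M k c)) = fun g : GL (Fin k) F =>
        (Rf (F := F) θ k a).fn (Fin k → F)
          ((Matrix.GeneralLinearGroup.toLin g : ((Fin k → F) →ₗ[F] (Fin k → F))ˣ) : (Fin k → F) →ₗ[F] (Fin k → F)) :=
      funext fun g => hfn g
    rw [h3]
    exact h2
  -- the norm
  have hnorm : classInner (Om (F := F) θ M k (rv (Nat.card F) M k c)) (Om (F := F) θ M k (rv (Nat.card F) M k c)) = 1 := by
    have h1 : (Om (F := F) θ M k (rv (Nat.card F) M k c)) = fun g : GL (Fin k) F =>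
        (Rf (F := F) θ k a).fn (Fin k → F) (Matrix.toLin' (g : Matrix (Fin k) (Fin k) F)) := funext hfn
    rw [h1, ip_eq_classInner, ip_Rf hctx hk hkN]
    have hq : 2 ≤ Nat.card F := Finite.one_lt_card
    have h2 : ((Finset.range k).filter fun j => a ≡ a * Nat.card F ^ j [MOD (Nat.card F ^ k - 1)]) = {0} := by
      ext j
      rw [Finset.mem_filter, Finset.mem_range, Finset.mem_singleton]
      constructor
      · rintro ⟨hj, h3⟩
        rw [ha, expo_modEq hq hk hTor hTor j] at h3
        by_contra h0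
        have h4 : Function.IsPeriodicPt (fun x : ZMod M => ((Nat.card F : ℤ) : ZMod M) * x) j c := by
          unfold Function.IsPeriodicPt Function.IsFixedPt
          rw [iterate_mul, Int.cast_natCast]
          exact h3.symm
        have h5 := h4.minimalPeriod_le (Nat.pos_of_ne_zero h0)
        change perZ (Nat.card F) M c ≤ j at h5
        omega
      · rintro rfl
        refine ⟨hk, ?_⟩
        rw [pow_zero, mul_one]
    rw [h2, Finset.card_singleton, Nat.cast_one]
  -- the degree
  have hone : Om (F := F) θ M k (rv (Nat.card F) M k c) 1 = (-1) ^ (k - 1) * (degP (Nat.card F) k : ℂ) := by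
    have hq : 2 ≤ Nat.card F := Finite.one_lt_card
    have h1 := kap_one (F := F) (lba (F := F) θ a) (lba_add θ a) (k - 1) (Fin k → F)
      (by rw [Module.finrank_fin_fun F]; omega)
    have h2 : Matrix.toLin' ((1 : GL (Fin k) F).1) = (1 : (Fin k → F) →ₗ[F] (Fin k → F)) := Matrix.toLin'_one
    rw [hval, h2, h1, lba_X_sub_one, one_mul]
    have h3 : ((-1 : ℂ)) ^ (k - 1) = ∏ _j ∈ Finset.range (k - 1), (-1 : ℂ) := by
      rw [Finset.prod_const, Finset.card_range]
    rw [h3, degP, Nat.cast_prod, ← Finset.prod_mul_distrib]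
    refine Finset.prod_congr rfl fun i _ => ?_
    rw [Nat.cast_sub (Nat.one_le_pow _ _ (by omega))]
    push_cast
    ring
  have hirr := isIrr_sign hgen hnorm (degP_pos (Finite.one_lt_card : 1 < Nat.card F) k) hone
  refine ⟨⟨_, hirr⟩, ⟨lba (F := F) θ a, lba_add θ a, lba_X_sub_one a, fun g => ?_⟩, fun g => rfl⟩
  change (-1) ^ (k - 1) * Om (F := F) θ M k (rv (Nat.card F) M k c) g = _
  rw [hval]

end

end Cfsg.Agent.H583.GLn
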